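import Cfsg.Agent.Lib.GW.Basic
import Cfsg.Agent.Lib.Recog.GenDihedral.QdFree
import Cfsg.Agent.Lib.PLocal.ZJPStable
import Cfsg.Agent.Lib.Comp.ConstrainedBalance
import Cfsg.Agent.Lib.Recog.GenDihedral.Socle

/-!
Tools for a maximal subgroup whose Fitting subgroup is a `p`-group, in a minimal counterexample to
the theorem of Gorenstein and Walter: the `ZJ` factorization, dihedral data of non-solvable
subgroups, and balance in solvable subgroups.
-/

set_option autoImplicit false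
set_option linter.unusedSectionVars false
set_option linter.style.haveILetI false

namespace CfsgLib.GW.OnePrime

open Subgroup CfsgLib.Invol CfsgLib.PLocal
open scoped MatrixGroups

universe u

variable {G : Type u} [Group G] [Finite G] {p : ℕ} [hp : Fact p.Prime]

/-- A minimal counterexample has no section `SL₂(p)`. -/
theorem no_sec (M : Min G) (h2 : p ≠ 2) (K : Subgroup G) (f : K →* SL(2, ZMod p)) :
    ¬ Function.Surjective f := by
  obtain ⟨T⟩ := (inferInstance : Nonempty (Sylow 2 G))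
  obtain ⟨D⟩ := M.dih T
  exact CfsgLib.Recog.GenDihedral.no_slTwo_section h2 T D K f

/-- `G = O_{p'}(G) N(Z(J(P)))` for a constrained group without section `SL₂(p)`. -/
theorem zj_factor (h2 : p ≠ 2)
    (hno : ∀ (K : Subgroup G) (f : K →* SL(2, ZMod p)), ¬ Function.Surjective f)
    [(Cfsg.pPrimeCore p G).Normal]
    (hc : centralizer (Cfsg.pCore p (G ⧸ Cfsg.pPrimeCore p G) : Set _) ≤
      Cfsg.pCore p (G ⧸ Cfsg.pPrimeCore p G)) (P : Sylow p G) :
    Cfsg.pPrimeCore p G ⊔ normalizer (Cfsg.centerThompsonAOf (P : Subgroup G) : Set G) = ⊤ := by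
  set q := QuotientGroup.mk' (Cfsg.pPrimeCore p G) with hq
  have hcop := CfsgLib.Comp.coprime_card_pPrimeCore p G
  have hn := centerThompsonAOf_normal h2 hc (fun B _ hB => isPStableOn_of_not_involves_qd h2
    (not_involves_qd_of_no_sl (no_sec_quotient hno _)) B hB)
    (P.mapSurjective (QuotientGroup.mk'_surjective _))
  rw [Sylow.coe_mapSurjective, ← centerThompsonAOf_map q (fun x hx h1 => ?_)] at hn
  · set Z := Cfsg.centerThompsonAOf (P : Subgroup G) with hZ
    have hZp : IsPGroup p Z := P.2.to_le (centerThompsonAOf_le _)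
    have h1 := CfsgLib.Comp.map_normalizer_eq hcop hZp
    rw [normalizer_eq_top_iff.2 hn] at h1
    refine eq_top_iff.2 fun g _ => ?_
    obtain ⟨n, hn', hne⟩ : q g ∈ (normalizer (Z : Set G)).map q := h1.symm ▸ mem_top _
    have h3 : g * n⁻¹ ∈ Cfsg.pPrimeCore p G := (QuotientGroup.eq_one_iff _).1 (by
      show q (g * n⁻¹) = 1
      rw [map_mul, map_inv, hne, mul_inv_cancel])
    rw [show g = g * n⁻¹ * n by group]
    exact mul_mem (mem_sup_left h3) (mem_sup_right hn')
  · have h3 : x ∈ (P : Subgroup G) ⊓ Cfsg.pPrimeCore p G := ⟨hx, (QuotientGroup.eq_one_iff x).1 h1⟩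
    rw [CfsgLib.Comp.inf_eq_bot_of_isPGroup P.2 hcop] at h3
    exact mem_bot.1 h3

/-- `Z(J(P))` is nontrivial for a nontrivial `p`-group `P`. -/
theorem zj_ne_bot {P : Subgroup G} (hP : IsPGroup p P) (h : P ≠ ⊥) :
    Cfsg.centerThompsonAOf P ≠ ⊥ := by
  have := functor_ne_bot (induced_isConjugacyFunctor (G := G) (zjFunctor_isCharPFunctor (p := p)))
    hP h
  rwa [inducedFunctor_zj] at this

/-- The noncyclic subgroups of dihedral `2`-groups are dihedral. -/
theorem exists_dihData_sub {S : Type u} [Group S] [Finite S] (D : DihData S) (R : Subgroup S)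
    (hR : ¬ IsCyclic R) : Nonempty (DihData R) := by
  classical
  haveI : Fact (Nat.Prime 2) := ⟨Nat.prime_two⟩
  obtain ⟨a, ha, b, hb, ha2, hb2, -, hne⟩ :=
    CfsgLib.Recog.GenDihedral.exists_pair_of_noncyclic D R hR
  obtain ⟨j, hj⟩ : ∃ j : ℤ, D.r ^ j * D.s ∈ R := by
    rcases D.invol_cases ha2 with e | ⟨i, e⟩
    · rcases D.invol_cases hb2 with e' | ⟨i, e'⟩
      · exact absurd (e.trans e'.symm) hne
      · exact ⟨i, e' ▸ hb⟩
    · exact ⟨i, e ▸ ha⟩
  have hz : D.z ∈ R := by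
    rcases D.invol_cases ha2 with e | ⟨i, e⟩
    · exact e ▸ ha
    rcases D.invol_cases hb2 with e' | ⟨i', e'⟩
    · exact e' ▸ hb
    · -- the product of two reflections in a four-group
      have h1 : a * b ∈ R := mul_mem ha hb
      rw [e, e', D.zy_mul_zy] at h1
      have h2 : D.r ^ (i - i') ≠ 1 := fun h => hne (by
        rw [zpow_sub, mul_inv_eq_one] at h
        rw [e, e', h])
      obtain ⟨k, hk⟩ := D.h_pow
      have hd : orderOf (D.r ^ (i - i')) ∣ 2 ^ (k + 1) := by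
        refine orderOf_dvd_of_pow_eq_one ?_
        rw [← zpow_natCast, ← zpow_mul, mul_comm, zpow_mul, zpow_natCast,
          show 2 ^ (k + 1) = orderOf D.r by rw [D.orderOf_r, hk]; ring, pow_orderOf_eq_one, one_zpow]
      obtain ⟨l, -, hl⟩ := (Nat.dvd_prime_pow Nat.prime_two).1 hd
      rcases l with _ | l
      · exact absurd (orderOf_eq_one_iff.1 (by simpa using hl)) h2
      have ho : orderOf ((D.r ^ (i - i')) ^ 2 ^ l) = 2 := by
        rw [orderOf_pow' _ (pow_ne_zero _ two_ne_zero), hl, pow_succ,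
          Nat.gcd_eq_right (Dvd.intro _ rfl), Nat.mul_div_cancel_left _ (pow_pos two_pos l)]
      have hmem : (D.r ^ (i - i')) ^ 2 ^ l ∈ R := pow_mem h1 _
      rw [← zpow_natCast, ← zpow_mul] at ho hmem
      rwa [D.eq_z_of_zpow ho] at hmem
  set A : Subgroup R := (zpowers D.r).subgroupOf R with hA
  have hAc : IsCyclic A := isCyclic_of_injective ((R.subtype.comp A.subtype).codRestrict
    (zpowers D.r) fun x => x.2) fun x y h => Subtype.ext (Subtype.ext (congrArg Subtype.val h :))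
  obtain ⟨σ, hσ⟩ := hAc.exists_generator
  set τ : R := ⟨D.r ^ j * D.s, hj⟩ with hτ
  have hτA : τ ∉ A := fun h => by
    obtain ⟨i, hi⟩ := mem_zpowers_iff.1 (show D.r ^ j * D.s ∈ zpowers D.r from h)
    exact D.ne_zpow j i hi.symm
  have hcase : ∀ u : R, u ∈ A ∨ u * τ ∈ A := fun u => by
    rcases D.cases (u : S) with ⟨i, hi⟩ | ⟨i, hi⟩
    · exact Or.inl (show (u : S) ∈ zpowers D.r from hi ▸ zpow_mem (mem_zpowers _) i)
    · refine Or.inr (show (u : S) * (D.r ^ j * D.s) ∈ zpowers D.r from ?_)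
      rw [hi, D.zy_mul_zy]; exact zpow_mem (mem_zpowers _) _
  have hidx : A.index = 2 := index_eq_two_iff.2 ⟨τ, fun u => by
    rcases hcase u with h | h
    · exact Or.inr ⟨h, fun h' => hτA ((mul_mem_cancel_left h).1 h')⟩
    · exact Or.inl ⟨h, fun h' => hτA ((mul_mem_cancel_left h').1 h)⟩⟩
  obtain ⟨k, hk⟩ := D.h_pow
  have hd : orderOf σ ∣ 2 ^ (k + 1) := by
    rw [← Subgroup.orderOf_coe, ← Subgroup.orderOf_coe]
    obtain ⟨i, hi⟩ := mem_zpowers_iff.1 (show ((σ : R) : S) ∈ zpowers D.r from σ.2)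
    refine orderOf_dvd_of_pow_eq_one ?_
    rw [← hi, ← zpow_natCast, ← zpow_mul, mul_comm, zpow_mul, zpow_natCast,
      show 2 ^ (k + 1) = orderOf D.r by rw [D.orderOf_r, hk]; ring, pow_orderOf_eq_one, one_zpow]
  have hcard : Nat.card A = orderOf σ := (orderOf_eq_card_of_forall_mem_zpowers hσ).symm
  obtain ⟨l, -, hl⟩ := (Nat.dvd_prime_pow Nat.prime_two).1 hd
  rcases l with _ | l
  · exfalso
    have hσ1 : σ = 1 := orderOf_eq_one_iff.1 (by simpa using hl)
    have hz' : (⟨⟨D.z, hz⟩, show D.z ∈ zpowers D.r from zpow_mem (mem_zpowers _) _⟩ : A) = 1 := by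
      obtain ⟨i, hi⟩ := mem_zpowers_iff.1 (hσ ⟨⟨D.z, hz⟩, zpow_mem (mem_zpowers _) _⟩)
      rw [← hi, hσ1, one_zpow]
    have h1 : D.z = 1 := congrArg (fun w : A => ((w : R) : S)) hz'
    have := D.orderOf_z
    rw [h1, orderOf_one] at this
    omega
  refine ⟨⟨2 ^ l, (σ : R), τ, pow_pos two_pos l, ⟨l, rfl⟩, ?_, ?_, ?_, ?_, ?_, ?_⟩⟩
  · rw [Subgroup.orderOf_coe, hl, pow_succ']
  · rw [hτ, Subgroup.orderOf_mk, D.orderOf_zy]
  · obtain ⟨i, hi⟩ := mem_zpowers_iff.1 (show ((σ : R) : S) ∈ zpowers D.r from σ.2)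
    refine Subtype.ext ?_
    show D.r ^ j * D.s * ((σ : R) : S) * (D.r ^ j * D.s)⁻¹ = ((σ : R) : S)⁻¹
    rw [← hi, D.zy_inv, D.zy_mul_z, D.zy_mul_zy, ← zpow_neg]
    congr 1; ring
  · intro h
    exact hτA ((zpowers_le.2 σ.2) h)
  · intro u
    rcases hcase u with h | h
    · obtain ⟨i, hi⟩ := mem_zpowers_iff.1 (hσ ⟨u, h⟩)
      exact Or.inl ⟨i, (congrArg Subtype.val hi).symm.trans (by simp)⟩
    · obtain ⟨i, hi⟩ := mem_zpowers_iff.1 (hσ ⟨_, h⟩)
      refine Or.inr ⟨i, ?_⟩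
      have h1 : (σ : R) ^ i = u * τ := by
        simpa using congrArg Subtype.val hi
      rw [h1, mul_assoc, invol_mul_self (by rw [hτ, Subgroup.orderOf_mk, D.orderOf_zy]), mul_one]
  · rw [← A.card_mul_index, hidx, hcard, hl, pow_succ]; ring

/-- The non-solvable subgroups of a minimal counterexample have dihedral Sylow 2-subgroups. -/
theorem exists_sylow_dihData (M : Min G) (N : Subgroup G) (hns : ¬ Group.IsSolvable N) :
    ∃ P : Sylow 2 N, Nonempty (DihData (P : Subgroup N)) := by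
  haveI : Fact (Nat.Prime 2) := ⟨Nat.prime_two⟩
  let P : Sylow 2 N := default
  obtain ⟨T, hT⟩ := (P.2.map N.subtype).exists_le_sylow
  obtain ⟨D⟩ := M.dih T
  let ψ : (P : Subgroup N) →* (T : Subgroup G) :=
    ((N.subtype.comp (P : Subgroup N).subtype).codRestrict (T : Subgroup G)
      fun x => hT ⟨_, x.2, rfl⟩)
  have hψ : Function.Injective ψ := fun a b h =>
    Subtype.ext (Subtype.ext (congrArg Subtype.val h :))
  have hnc : ¬ IsCyclic ψ.range := fun hc => hns (CfsgLib.Recog.GenDihedral.isSolvable_of_cyclic_sylow P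
    (isCyclic_of_injective ψ.rangeRestrict fun a b h => hψ (congrArg Subtype.val h)))
  obtain ⟨E⟩ := exists_dihData_sub D ψ.range hnc
  obtain ⟨e⟩ := dihEquiv E
  exact ⟨P, exists_dihData P.2 (by have := E.h_pos; omega) ((MonoidHom.ofInjective hψ).trans e)⟩

/-- Balance: in a solvable subgroup the odd elements centralizing an involution are in the core. -/
theorem mem_oddCore_of_commute (M : Min G) {N : Subgroup G} (hs : Group.IsSolvable N) {v y : N}
    (hv : orderOf (v : G) = 2) (hy : Odd (orderOf (y : G))) (hc : Commute (y : G) v) :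
    y ∈ Cfsg.oddCore N := by
  haveI := hs
  haveI : Fact (Nat.Prime 2) := ⟨Nat.prime_two⟩
  haveI := Cfsg.pPrimeCore_normal 2 ↥N
  have h1 : (y : G) ∈ Cfsg.centralizerPPrimeCore 2 (v : G) := M.mem_coreC hv (mem_cI.2 hc.eq) hy
  have hv' : IsPGroup 2 (zpowers v) :=
    IsPGroup.of_card (n := 1) (by rw [Nat.card_zpowers, ← Subgroup.orderOf_coe, hv, pow_one])
  set q := QuotientGroup.mk' (Cfsg.pPrimeCore 2 ↥N)
  have h2 : q y ∈ (⊥ : Subgroup (↥N ⧸ Cfsg.pPrimeCore 2 ↥N)) := by
    rw [← CfsgLib.Comp.centralizerPPrimeCore_eq_bot_of_centralizer_le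
      (CfsgLib.Solvable.centralizer_pCore_le 2
        (CfsgLib.Comp.pPrimeCore_quotient_eq_bot 2 ↥N)) (x := q v)
      (by rw [← MonoidHom.map_zpowers]; exact hv'.map q)]
    exact CfsgLib.Comp.map_centralizerPPrimeCore_le (CfsgLib.Comp.coprime_card_pPrimeCore 2 ↥N) hv'
      ⟨y, h1, rfl⟩
  exact (QuotientGroup.eq_one_iff y).1 (mem_bot.1 h2)

end CfsgLib.GW.OnePrime
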