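import Cfsg.Agent.Lib.Coprime.Generation
import Cfsg.Agent.Lib.GW.Defs

/-!
A four-group normalizing a subgroup of odd order: generation by the centralizers, and the case of a
group in which the centralizers of nontrivial elements of odd order have cyclic centralizer as soon
as they commute with an involution.
-/

set_option autoImplicit false
set_option linter.unusedSectionVars false
set_option linter.style.haveILetI false

namespace CfsgLib.GW.OnePrime

open Subgroup CfsgLib.Invol

universe u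

variable {G : Type u} [Group G] [Finite G]

/-- Membership in a centralizer, as commutation. -/
theorem mem_cI' {u x : G} : x ∈ cI u ↔ Commute x u := mem_centralizer_singleton_iff

theorem eq_one_of_odd_sq {H : Subgroup G} (hH : Odd (Nat.card H)) {x : G} (hx : x ∈ H)
    (h : x * x = 1) : x = 1 :=
  orderOf_eq_one_iff.1 (Nat.eq_one_of_dvd_coprimes
    (Nat.coprime_two_left.2 (hH.of_dvd_nat (Subgroup.orderOf_dvd_natCard _ hx)))
    (orderOf_dvd_of_pow_eq_one ((pow_two x).trans h)) dvd_rfl)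

/-- An involution which centralizes the commutators it makes with a subgroup of odd order
centralizes the subgroup. -/
theorem le_cI_of_commutator {Y : Subgroup G} (hY : Odd (Nat.card Y)) {u : G} (hu : orderOf u = 2)
    (hn : u ∈ normalizer (Y : Set G))
    (hX : ∀ y ∈ Y, Commute (y * u * y⁻¹ * u⁻¹) u) : Y ≤ cI u := by
  intro y hy
  set c := y * u * y⁻¹ * u⁻¹ with hc
  have hcY : c ∈ Y := by
    rw [hc, show y * u * y⁻¹ * u⁻¹ = y * (u * y⁻¹ * u⁻¹) by group]
    exact mul_mem hy ((mem_normalizer_iff.1 hn _).1 (inv_mem hy))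
  have hinv : u * c * u⁻¹ = c⁻¹ := by
    have h2 := invol_inv hu
    rw [hc, mul_inv_rev, mul_inv_rev, mul_inv_rev, inv_inv, inv_inv]
    simp only [h2, mul_assoc, invol_mul_self hu, mul_one]
  have hcu : Commute c u := hX y hy
  rw [← hcu.eq, mul_inv_cancel_right] at hinv
  have h1 : c = 1 := eq_one_of_odd_sq hY hcY (by nth_rewrite 2 [hinv]; exact mul_inv_cancel c)
  refine mem_cI'.2 ?_
  show y * u = u * y
  rw [hc, mul_inv_eq_one, mul_inv_eq_iff_eq_mul] at h1
  exact h1

theorem invol_zpowers {v x : G} (hv : orderOf v = 2) (hx : x ∈ zpowers v) : x = 1 ∨ x = v := by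
  obtain ⟨i, rfl⟩ := mem_zpowers_iff.1 hx
  rw [← zpow_mod_orderOf v i, hv]
  rcases Int.emod_two_eq_zero_or_one i with h | h <;> simp [h]

variable {v w : G}

theorem zpowers_le_normalizer_zpowers (hvw : Commute v w) :
    zpowers v ≤ normalizer (zpowers w : Set G) := by
  rw [zpowers_le]
  refine mem_normalizer_iff_of_finite fun y hy => ?_
  obtain ⟨i, rfl⟩ := mem_zpowers_iff.1 hy
  rw [(hvw.zpow_right i).eq, mul_inv_cancel_right]
  exact zpow_mem (mem_zpowers w) i

theorem four_cases (hv : orderOf v = 2) (hw : orderOf w = 2) (hvw : Commute v w) {x : G}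
    (hx : x ∈ zpowers v ⊔ zpowers w) : x = 1 ∨ x = v ∨ x = w ∨ x = v * w := by
  obtain ⟨a, ha, b, hb, rfl⟩ :=
    (CfsgLib.Coprime.mem_sup_of_le_normalizer (zpowers_le_normalizer_zpowers hvw.symm)).1 hx
  rcases invol_zpowers hv ha with rfl | rfl <;> rcases invol_zpowers hw hb with rfl | rfl <;> simp

theorem orderOf_four_mul (hv : orderOf v = 2) (hw : orderOf w = 2) (hne : v ≠ w)
    (hvw : Commute v w) : orderOf (v * w) = 2 := by
  refine invol_of_mul_self ?_ fun h => hne ?_
  · rw [show v * w * (v * w) = v * (w * v) * w by group, ← hvw.eq,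
      show v * (v * w) * w = (v * v) * (w * w) by group, invol_mul_self hv, invol_mul_self hw, one_mul]
  · rw [mul_eq_one_iff_eq_inv, invol_inv hw] at h; exact h

theorem four_comm (hv : orderOf v = 2) (hw : orderOf w = 2) (hvw : Commute v w) {x y : G}
    (hx : x ∈ zpowers v ⊔ zpowers w) (hy : y ∈ zpowers v ⊔ zpowers w) : Commute x y := by
  have h : ∀ z, z = 1 ∨ z = v ∨ z = w ∨ z = v * w → Commute z v ∧ Commute z w := by
    rintro z (rfl | rfl | rfl | rfl)
    · exact ⟨Commute.one_left _, Commute.one_left _⟩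
    · exact ⟨Commute.refl _, hvw⟩
    · exact ⟨hvw.symm, Commute.refl _⟩
    · exact ⟨(Commute.refl v).mul_left hvw.symm, hvw.mul_left (Commute.refl w)⟩
  obtain ⟨h1, h2⟩ := h x (four_cases hv hw hvw hx)
  rcases four_cases hv hw hvw hy with rfl | rfl | rfl | rfl
  · exact Commute.one_right _
  · exact h1
  · exact h2
  · exact h1.mul_right h2

theorem isPGroup_four (hv : orderOf v = 2) (hw : orderOf w = 2) (hvw : Commute v w) :
    IsPGroup 2 (zpowers v ⊔ zpowers w : Subgroup G) := by
  haveI : Fact (Nat.Prime 2) := ⟨Nat.prime_two⟩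
  exact (IsPGroup.of_card (n := 1) (by rw [Nat.card_zpowers, hv, pow_one])).to_sup_of_normal_right'
    (IsPGroup.of_card (n := 1) (by rw [Nat.card_zpowers, hw, pow_one]))
    (zpowers_le_normalizer_zpowers hvw)

theorem coprime_four (hv : orderOf v = 2) (hw : orderOf w = 2) (hvw : Commute v w)
    {Y : Subgroup G} (hY : Odd (Nat.card Y)) :
    (Nat.card (zpowers v ⊔ zpowers w : Subgroup G)).Coprime (Nat.card Y) := by
  haveI : Fact (Nat.Prime 2) := ⟨Nat.prime_two⟩
  obtain ⟨n, hn⟩ := (isPGroup_four hv hw hvw).exists_card_eq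
  rw [hn]; exact (Nat.coprime_two_left.2 hY).pow_left n

theorem eq_of_isCyclic {C : Subgroup G} (hC : IsCyclic C) (hv : orderOf v = 2) (hw : orderOf w = 2)
    (hvC : v ∈ C) (hwC : w ∈ C) : v = w := by
  classical
  haveI := Fintype.ofFinite C
  by_contra hne
  have hsub : ({1, ⟨v, hvC⟩, ⟨w, hwC⟩} : Finset C) ⊆ Finset.univ.filter (fun a : C => a ^ 2 = 1) := by
    intro a ha
    simp only [Finset.mem_insert, Finset.mem_singleton] at ha
    refine Finset.mem_filter.2 ⟨Finset.mem_univ _, ?_⟩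
    rcases ha with rfl | rfl | rfl
    · exact one_pow 2
    · exact Subtype.ext (by simpa [pow_two] using invol_mul_self hv)
    · exact Subtype.ext (by simpa [pow_two] using invol_mul_self hw)
  have h := (Finset.card_le_card hsub).trans (IsCyclic.card_pow_eq_one_le (α := C) two_pos)
  rw [Finset.card_insert_of_notMem, Finset.card_insert_of_notMem, Finset.card_singleton] at h
  · omega
  · simp [hne]
  · simp only [Finset.mem_insert, Finset.mem_singleton, not_or]
    exact ⟨fun e => invol_ne_one hv (congrArg Subtype.val e).symm,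
      fun e => invol_ne_one hw (congrArg Subtype.val e).symm⟩

/-- Generation by the centralizers of the three involutions. -/
theorem four_gen (hv : orderOf v = 2) (hw : orderOf w = 2) (hne : v ≠ w) (hvw : Commute v w)
    {Y : Subgroup G} (hY : Odd (Nat.card Y)) (hvY : v ∈ normalizer (Y : Set G))
    (hwY : w ∈ normalizer (Y : Set G)) :
    Y ≤ (Y ⊓ cI v) ⊔ (Y ⊓ cI w) ⊔ (Y ⊓ cI (v * w)) := by
  set A : Subgroup G := zpowers v ⊔ zpowers w with hA
  have hAab : IsMulCommutative A :=
    ⟨⟨fun x y => Subtype.ext (four_comm hv hw hvw x.2 y.2).eq⟩⟩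
  have hnc : ¬ IsCyclic A := fun hc => hne (eq_of_isCyclic hc hv hw
    (mem_sup_left (mem_zpowers v)) (mem_sup_right (mem_zpowers w)))
  refine le_of_eq_of_le (CfsgLib.Coprime.iSup_centralizer_eq hAab hnc
    (sup_le (zpowers_le.2 hvY) (zpowers_le.2 hwY)) (coprime_four hv hw hvw hY)).symm ?_
  refine iSup_le ?_
  rintro ⟨a, ha, ha1⟩
  rcases four_cases hv hw hvw ha with rfl | rfl | rfl | rfl
  · exact absurd rfl ha1
  · exact le_sup_left.trans le_sup_left
  · exact le_sup_right.trans le_sup_left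
  · exact le_sup_right

/-- Centralizers of odd elements commuting with an involution are cyclic. -/
def CycCent (L : Type*) [Group L] : Prop :=
  ∀ y v : L, Odd (orderOf y) → y ≠ 1 → orderOf v = 2 → Commute y v →
    IsCyclic (centralizer ({y} : Set L))

theorem commute_of_isCyclic {C : Subgroup G} (hC : IsCyclic C) {x y : G} (hx : x ∈ C) (hy : y ∈ C) :
    Commute x y := by
  letI := hC.commGroup
  exact congrArg Subtype.val (mul_comm (⟨x, hx⟩ : C) ⟨y, hy⟩)

theorem cyc_step (hcc : CycCent G) {Y : Subgroup G} (hY : Odd (Nat.card Y)) {u u' z : G}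
    (hu : orderOf u = 2) (hu' : orderOf u' = 2) (hne : u ≠ u') (hzY : z ∈ Y) (hz1 : z ≠ 1)
    (hzc : ∀ y ∈ Y, Commute z y) (hzu : Commute z u) : Y ⊓ cI u' = ⊥ := by
  rw [eq_bot_iff]
  rintro y ⟨hyY, hyu⟩
  by_contra hy1
  have hy1' : y ≠ 1 := fun h => hy1 (mem_bot.2 h)
  have hodd : ∀ x ∈ Y, Odd (orderOf x) := fun x hx =>
    hY.of_dvd_nat (Subgroup.orderOf_dvd_natCard _ hx)
  have hyu' : Commute y u' := mem_cI'.1 hyu
  have hC := hcc y u' (hodd y hyY) hy1' hu' hyu'
  have hzu' : Commute z u' := commute_of_isCyclic hC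
    (mem_centralizer_singleton_iff.2 (hzc y hyY).eq) (mem_centralizer_singleton_iff.2 hyu'.symm.eq)
  exact hne (eq_of_isCyclic (hcc z u (hodd z hzY) hz1 hu hzu) hu hu'
    (mem_centralizer_singleton_iff.2 hzu.symm.eq) (mem_centralizer_singleton_iff.2 hzu'.symm.eq))

/-- In a group with cyclic centralizers as above, a four-group normalizing a `p`-group of odd
order has an involution centralizing it. -/
theorem cyc_four (hcc : CycCent G) {p : ℕ} [Fact p.Prime] {Y : Subgroup G} (hYp : IsPGroup p Y)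
    (hY : Odd (Nat.card Y)) (hv : orderOf v = 2) (hw : orderOf w = 2) (hne : v ≠ w)
    (hvw : Commute v w) (hvY : v ∈ normalizer (Y : Set G)) (hwY : w ∈ normalizer (Y : Set G)) :
    Y ≤ cI v ∨ Y ≤ cI w ∨ Y ≤ cI (v * w) := by
  have hu := orderOf_four_mul hv hw hne hvw
  have h1 : v ≠ v * w := fun e => invol_ne_one hw (mul_eq_left.1 e.symm)
  have h2 : w ≠ v * w := fun e => invol_ne_one hv (mul_eq_right.1 e.symm)
  have hgen := four_gen hv hw hne hvw hY hvY hwY
  rcases eq_or_ne Y ⊥ with rfl | hYne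
  · exact Or.inl bot_le
  set Z : Subgroup G := Y ⊓ centralizer (Y : Set G) with hZdef
  have hZn : ∀ x ∈ normalizer (Y : Set G), x ∈ normalizer (Z : Set G) := fun x hx => by
    refine mem_normalizer_iff_of_finite fun z hz => ⟨(mem_normalizer_iff.1 hx z).1 hz.1, ?_⟩
    refine mem_centralizer_iff.2 fun y hy => ?_
    have hy' := (mem_normalizer_iff''.1 hx y).1 hy
    have e := mem_centralizer_iff.1 hz.2 _ hy'
    calc y * (x * z * x⁻¹) = x * (x⁻¹ * y * x * z) * x⁻¹ := by group
      _ = x * (z * (x⁻¹ * y * x)) * x⁻¹ := by rw [e]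
      _ = _ := by group
  have hZne : Z ≠ ⊥ := by
    haveI : Nontrivial Y := (Subgroup.nontrivial_iff_ne_bot Y).2 hYne
    haveI := hYp.center_nontrivial
    obtain ⟨⟨z, hz⟩, hz1⟩ := exists_ne (1 : center Y)
    intro h0
    refine hz1 (Subtype.ext (Subtype.ext (mem_bot.1 (h0 ▸
      (⟨z.2, mem_centralizer_iff.2 fun y hy => congrArg Subtype.val (mem_center_iff.1 hz ⟨y, hy⟩)⟩ :
        (z : G) ∈ Z)))))
  have hZY : Z ≤ Y := inf_le_left
  have hgenZ := four_gen hv hw hne hvw (hY.of_dvd_nat (card_dvd_of_le hZY)) (hZn v hvY) (hZn w hwY)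
  have key : ∀ u, orderOf u = 2 → Z ⊓ cI u ≠ ⊥ → ∀ u', orderOf u' = 2 → u ≠ u' →
      Y ⊓ cI u' = ⊥ := by
    intro u hu hne0 u' hu' huu
    obtain ⟨z, hz, hz1⟩ := (bot_or_exists_ne_one _).resolve_left hne0
    exact cyc_step hcc hY hu hu' huu hz.1.1 hz1
      (fun y hy => (mem_centralizer_iff.1 hz.1.2 y hy).symm) (mem_cI'.1 hz.2)
  by_cases hZv : Z ⊓ cI v = ⊥
  · by_cases hZw : Z ⊓ cI w = ⊥
    · refine Or.inr (Or.inr ?_)
      have hne0 : Z ⊓ cI (v * w) ≠ ⊥ := fun h => hZne (le_bot_iff.1 (hgenZ.trans (by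
        rw [hZv, hZw, h]; simp)))
      rw [key _ hu hne0 v hv h1.symm, key _ hu hne0 w hw h2.symm, bot_sup_eq, bot_sup_eq] at hgen
      exact hgen.trans inf_le_right
    · refine Or.inr (Or.inl ?_)
      rw [key w hw hZw v hv (Ne.symm hne), key w hw hZw _ hu h2, bot_sup_eq, sup_bot_eq] at hgen
      exact hgen.trans inf_le_right
  · refine Or.inl ?_
    rw [key v hv hZv w hw hne, key v hv hZv _ hu h1, sup_bot_eq, sup_bot_eq] at hgen
    exact hgen.trans inf_le_right

end CfsgLib.GW.OnePrime
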