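import Mathlib

/-!
The even involutions normalizing the Sylow 3-subgroup `⟨(012), (345)⟩` of the symmetric group on
seven points invert it.
-/

set_option autoImplicit false
set_option synthInstance.maxSize 2000
set_option synthInstance.maxHeartbeats 400000

namespace CfsgLib.GW.OnePrime

open Equiv

/-- The three-cycle `(012)`. -/
scoped notation "cycX" => (swap (0 : Fin 7) 1 * swap 1 2 : Perm (Fin 7))

/-- The three-cycle `(345)`. -/
scoped notation "cycY" => (swap (3 : Fin 7) 4 * swap 4 5 : Perm (Fin 7))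

theorem invert_check : ∀ v : Perm (Fin 7), v * v = 1 → Perm.sign v = 1 → v ≠ 1 →
    v * cycX * v⁻¹ * cycX = cycX * (v * cycX * v⁻¹) →
    v * cycX * v⁻¹ * cycY = cycY * (v * cycX * v⁻¹) →
    v * cycY * v⁻¹ * cycX = cycX * (v * cycY * v⁻¹) →
    v * cycY * v⁻¹ * cycY = cycY * (v * cycY * v⁻¹) →
    v * cycX * v⁻¹ = cycX⁻¹ := by
  set_option maxRecDepth 200000 in decide +kernel

theorem cyc_facts : cycX ^ 3 = 1 ∧ cycY ^ 3 = 1 ∧ cycX * cycY = cycY * cycX ∧ cycX * cycX ≠ 1 := by
  decide +kernel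

end CfsgLib.GW.OnePrime
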