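import Cfsg.Agent.Lib.GW.OnePrime.Four
import Cfsg.Agent.Lib.GW.OnePrime.AltSevenCheck
import Cfsg.Agent.Lib.Geom.PSLTwoCentralizer

/-!
A four-group of `PSL₂(q)` or `A₇` normalizing a `p`-subgroup, `p` odd, has an involution
centralizing it; the same holds in an extension of such a group.
-/

set_option autoImplicit false
set_option linter.unusedSectionVars false
set_option linter.style.haveILetI false

namespace CfsgLib.GW.OnePrime

open Subgroup CfsgLib.Invol
open CfsgLib.Recog.GW (IsGWModel)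
open scoped MatrixGroups

universe u

section PSL

open Matrix CfsgLib.Geom.Moebius

variable {F : Type} [Field F] [Fintype F]

/-- In `PSL₂(q)`, `q` odd, the nontrivial odd elements centralizing an involution have cyclic
centralizer. -/
theorem cycCent_psl (hodd : Odd (Fintype.card F)) :
    CycCent (ProjectiveSpecialLinearGroup (Fin 2) F) := by
  intro y v hy hy1 hv hyv
  have := finite_pgl_two (F := F)
  obtain ⟨E, _, _, f, hE, hQC⟩ := exists_quadExt F
  set ψ := Matrix.ProjectiveSpecialLinearGroup.toPGL (n := Fin 2) (R := F)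
  have hψ : Function.Injective ψ := Matrix.ProjectiveSpecialLinearGroup.toPGL_injective
  have hy1' : ψ y ≠ 1 := fun e => hy1 (hψ (e.trans (map_one _).symm))
  obtain ⟨P, hP⟩ := exists_fixed f hQC (ψ y)
  obtain ⟨Q, hQ, hne⟩ : ∃ Q, extHom f (ψ y) • Q = Q ∧ Q ≠ P := by
    by_contra h
    obtain ⟨-, -, hc⟩ := card_centralizer_one_fixed f hQC hy1' hP fun R hR =>
      by_contra fun e => h ⟨R, hR, e⟩
    have hd := Subgroup.orderOf_dvd_natCard _
      (mem_centralizer_singleton_iff.2 (hyv.map ψ).symm.eq : ψ v ∈ centralizer {ψ y})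
    rw [orderOf_injective ψ hψ, hv, hc] at hd
    exact Nat.not_even_iff_odd.2 hodd (even_iff_two_dvd.2 hd)
  obtain ⟨hcyc, -, -⟩ := torus_pair f hE hQC hne.symm hy1' hP hQ
  refine isCyclic_of_injective (G' := (fixExt f P ⊓ fixExt f Q : Subgroup PGL(2, F)))
    ((ψ.comp (centralizer {y}).subtype).codRestrict _ fun x => ?_)
    fun a b e => Subtype.ext (hψ (congrArg Subtype.val e :))
  have hx : Commute (x : ProjectiveSpecialLinearGroup (Fin 2) F) y :=
    mem_centralizer_singleton_iff.1 x.2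
  rcases (centralizer_two_fixed f hE hQC hne.symm hy1' hP hQ).1
    (mem_centralizer_singleton_iff.2 (hx.map ψ).eq) with h | ⟨h, -⟩
  · exact h
  · have hyy : y * y = 1 := hψ (by rw [map_mul, h, map_one])
    refine absurd hy ?_
    rw [invol_of_mul_self hyy hy1]
    decide

end PSL

variable {L : Type u} [Group L] [Finite L] {p : ℕ} [hp : Fact p.Prime]

theorem CycCent.congr {M : Type*} [Group M] (e : L ≃* M) (h : CycCent M) : CycCent L := by
  intro y v hy hy1 hv hyv
  have hC := h (e y) (e v) (by rwa [MulEquiv.orderOf_eq]) (by simpa using hy1)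
    (by rw [MulEquiv.orderOf_eq, hv]) (hyv.map e)
  exact isCyclic_of_injective (G' := (centralizer ({e y} : Set M)))
    ((e.toMonoidHom.comp (centralizer {y}).subtype).codRestrict _ fun x =>
      mem_centralizer_singleton_iff.2
        ((show Commute (x : L) y from mem_centralizer_singleton_iff.1 x.2).map e).eq)
    fun a b he => Subtype.ext (e.injective (congrArg Subtype.val he :))

/-- A normalized subgroup of prime order is centralized by one of the three involutions. -/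
theorem prime_four {Y : Subgroup L} (hYc : Nat.card Y = p) (hY : Odd (Nat.card Y)) {v w : L}
    (hv : orderOf v = 2) (hw : orderOf w = 2) (hne : v ≠ w) (hvw : Commute v w)
    (hvY : v ∈ normalizer (Y : Set L)) (hwY : w ∈ normalizer (Y : Set L)) :
    Y ≤ cI v ∨ Y ≤ cI w ∨ Y ≤ cI (v * w) := by
  haveI : Fact (Nat.card Y).Prime := ⟨hYc ▸ hp.out⟩
  have key : ∀ u : L, Y ≤ cI u ∨ Y ⊓ cI u = ⊥ := by
    intro u
    rcases ((cI u).subgroupOf Y).eq_bot_or_eq_top_of_prime_card with h | h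
    · exact Or.inr (by rw [inf_comm]; exact disjoint_iff.1 (subgroupOf_eq_bot.1 h))
    · exact Or.inl (subgroupOf_eq_top.1 h)
  rcases key v with h1 | h1
  · exact Or.inl h1
  rcases key w with h2 | h2
  · exact Or.inr (Or.inl h2)
  rcases key (v * w) with h3 | h3
  · exact Or.inr (Or.inr h3)
  have := four_gen hv hw hne hvw hY hvY hwY
  rw [h1, h2, h3, bot_sup_eq, bot_sup_eq, le_bot_iff] at this
  exact Or.inl (this ▸ bot_le)

/-- The case of the alternating group of degree seven. -/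
theorem alt_seven_four (e : L ≃* alternatingGroup (Fin 7)) (h2 : p ≠ 2) {Y : Subgroup L}
    (hYp : IsPGroup p Y) (hY : Odd (Nat.card Y)) {v w : L} (hv : orderOf v = 2)
    (hw : orderOf w = 2) (hne : v ≠ w) (hvw : Commute v w) (hvY : v ∈ normalizer (Y : Set L))
    (hwY : w ∈ normalizer (Y : Set L)) : Y ≤ cI v ∨ Y ≤ cI w ∨ Y ≤ cI (v * w) := by
  obtain ⟨k, hk⟩ := hYp.exists_card_eq
  have hL : Nat.card L = 2520 := by
    rw [Nat.card_congr e.toEquiv, nat_card_alternatingGroup]; simp [Nat.factorial]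
  rcases k with _ | _ | k
  · exact Or.inl ((card_eq_one.1 (by simpa using hk)).le.trans bot_le)
  · exact prime_four (p := p) (by simpa using hk) hY hv hw hne hvw hvY hwY
  -- order nine
  exfalso
  have hdvd : p ^ (k + 1 + 1) ∣ 2520 := by rw [← hk, ← hL]; exact card_subgroup_dvd_card Y
  have hp3 : p = 3 := by
    have h1 : p ^ 2 ∣ 2520 := (pow_dvd_pow p (by omega)).trans hdvd
    have h3 : p ≤ 50 := by
      have := Nat.le_of_dvd (by norm_num) h1
      nlinarith
    have := hp.out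
    interval_cases p <;> revert this h1 <;> norm_num at *
  subst hp3
  have hk0 : k = 0 := by
    by_contra hk0
    have h1 : 3 ^ 3 ∣ 2520 := (pow_dvd_pow 3 (by omega)).trans hdvd
    norm_num at h1
  subst hk0
  haveI hYc : IsMulCommutative Y := IsPGroup.isMulCommutative_of_card_eq_prime_sq (p := 3) hk
  set φ : L →* Equiv.Perm (Fin 7) := (alternatingGroup (Fin 7)).subtype.comp e.toMonoidHom with hφ
  have hφi : Function.Injective φ := (Subgroup.subtype_injective _).comp e.injective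
  set Y' : Subgroup (Equiv.Perm (Fin 7)) := Y.map φ with hY'
  have hY'c : Nat.card Y' = 9 := by rw [hY', card_map_of_injective hφi, hk]; norm_num
  have hS7 : Nat.card (Equiv.Perm (Fin 7)) = 5040 := by
    rw [Nat.card_perm, Nat.card_fin]; rfl
  obtain ⟨hx3, hy3, hxy, hx2⟩ := cyc_facts
  set A : Subgroup (Equiv.Perm (Fin 7)) := zpowers cycX ⊔ zpowers cycY with hA
  have hz3 : ∀ g : Equiv.Perm (Fin 7), g ^ 3 = 1 → IsPGroup 3 (zpowers g) := fun g hg => by
    obtain ⟨i, -, hi⟩ := (Nat.dvd_prime_pow (Nat.prime_three)).1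
      (orderOf_dvd_of_pow_eq_one (show g ^ 3 ^ 1 = 1 by rw [pow_one]; exact hg))
    exact IsPGroup.of_card (n := i) (by rw [Nat.card_zpowers, hi])
  have hAp : IsPGroup 3 A := (hz3 _ hx3).to_sup_of_normal_right' (hz3 _ hy3)
    (zpowers_le_normalizer_zpowers hxy)
  haveI : Fact (Nat.Prime 3) := ⟨Nat.prime_three⟩
  obtain ⟨S, hS⟩ := hAp.exists_le_sylow
  have hY'p : IsPGroup 3 Y' := hYp.map φ
  obtain ⟨S', hS'⟩ := hY'p.exists_le_sylow
  have hScard : Nat.card (S' : Subgroup (Equiv.Perm (Fin 7))) = 9 := by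
    obtain ⟨n, hn⟩ := S'.2.exists_card_eq
    have h1 : 3 ^ n ∣ 5040 := hS7 ▸ hn ▸ card_subgroup_dvd_card _
    have h2' : 9 ∣ 3 ^ n := hY'c ▸ hn ▸ card_dvd_of_le hS'
    have h3 : n ≤ 2 := by
      by_contra hlt
      have : 27 ∣ 5040 := (pow_dvd_pow 3 (show 3 ≤ n by omega)).trans h1
      norm_num at this
    have h4 : 2 ≤ n := by
      by_contra hlt
      interval_cases n <;> norm_num at h2'
    rw [hn, show n = 2 by omega]; norm_num
  have hS'Y : (S' : Subgroup (Equiv.Perm (Fin 7))) = Y' :=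
    (eq_of_le_of_card_ge hS' (by rw [hScard, hY'c])).symm
  obtain ⟨g, hg⟩ := MulAction.exists_smul_eq (Equiv.Perm (Fin 7)) S' S
  have hmem : ∀ a ∈ A, ∃ y ∈ Y, g * φ y * g⁻¹ = a := by
    intro a ha
    have h1 : a ∈ ((g • S' : Sylow 3 (Equiv.Perm (Fin 7))) : Subgroup (Equiv.Perm (Fin 7))) :=
      hg ▸ hS ha
    rw [Sylow.coe_subgroup_smul, hS'Y] at h1
    obtain ⟨_, ⟨y, hy, rfl⟩, e1⟩ := h1
    exact ⟨y, hy, e1⟩
  obtain ⟨x0, hx0, hx0e⟩ := hmem cycX (mem_sup_left (mem_zpowers _))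
  obtain ⟨y0, hy0, hy0e⟩ := hmem cycY (mem_sup_right (mem_zpowers _))
  have inv : ∀ u : L, orderOf u = 2 → u ∈ normalizer (Y : Set L) → u * x0 * u⁻¹ = x0⁻¹ := by
    intro u hu huY
    set c : L →* Equiv.Perm (Fin 7) := (MulAut.conj g).toMonoidHom.comp φ with hc
    have hci : Function.Injective c := (MulAut.conj g).injective.comp hφi
    have hcx : c x0 = cycX := hx0e
    have hcy : c y0 = cycY := hy0e
    have hcom : ∀ s ∈ Y, ∀ t ∈ Y, c s * c t = c t * c s := fun s hs t ht => by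
      rw [← map_mul, ← map_mul,
        show s * t = t * s from congrArg Subtype.val (hYc.is_comm.comm ⟨s, hs⟩ ⟨t, ht⟩)]
    have hnx : u * x0 * u⁻¹ ∈ Y := (mem_normalizer_iff.1 huY _).1 hx0
    have hny : u * y0 * u⁻¹ ∈ Y := (mem_normalizer_iff.1 huY _).1 hy0
    refine hci ?_
    rw [map_inv c x0, hcx, map_mul, map_mul, map_inv, hcx]
    refine invert_check (c u) ?_ ?_ ?_ ?_ ?_ ?_ ?_
    · rw [← map_mul, invol_mul_self hu, map_one]
    · rw [hc, MonoidHom.comp_apply]
      show Equiv.Perm.sign (g * φ u * g⁻¹) = 1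
      rw [map_mul, map_mul, map_inv, mul_right_comm, mul_inv_cancel, one_mul]
      exact Equiv.Perm.mem_alternatingGroup.1 (e u).2
    · exact fun h => invol_ne_one hu (hci (h.trans (map_one c).symm))
    · rw [← hcx, ← map_inv, ← map_mul, ← map_mul]; exact hcom _ hnx _ hx0
    · rw [← hcx, ← hcy, ← map_inv, ← map_mul, ← map_mul]; exact hcom _ hnx _ hy0
    · rw [← hcx, ← hcy, ← map_inv, ← map_mul, ← map_mul]; exact hcom _ hny _ hx0
    · rw [← hcy, ← map_inv, ← map_mul, ← map_mul]; exact hcom _ hny _ hy0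
  have h3 := inv (v * w) (orderOf_four_mul hv hw hne hvw) (mul_mem hvY hwY)
  rw [mul_inv_rev, show v * w * x0 * (w⁻¹ * v⁻¹) = v * (w * x0 * w⁻¹) * v⁻¹ by group,
    inv w hw hwY, ← conj_inv, inv v hv hvY, inv_inv] at h3
  refine hx2 ?_
  rw [← hx0e, show g * φ x0 * g⁻¹ * (g * φ x0 * g⁻¹) = g * φ (x0 * x0) * g⁻¹ by
    rw [map_mul]; group]
  rw [show x0 * x0 = 1 by nth_rewrite 2 [h3]; exact mul_inv_cancel x0, map_one, mul_one,
    mul_inv_cancel]

/-- In a model group, one of the three involutions centralizes. -/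
theorem model_four (hL : IsGWModel L) (h2 : p ≠ 2) {Y : Subgroup L}
    (hYp : IsPGroup p Y) (hY : Odd (Nat.card Y)) {v w : L} (hv : orderOf v = 2)
    (hw : orderOf w = 2) (hne : v ≠ w) (hvw : Commute v w) (hvY : v ∈ normalizer (Y : Set L))
    (hwY : w ∈ normalizer (Y : Set L)) : Y ≤ cI v ∨ Y ≤ cI w ∨ Y ≤ cI (v * w) := by
  rcases hL with ⟨F, _, _, hodd, -, ⟨e⟩⟩ | ⟨⟨e⟩⟩
  · exact cyc_four ((cycCent_psl hodd).congr e) hYp hY hv hw hne hvw hvY hwY
  · exact alt_seven_four e h2 hYp hY hv hw hne hvw hvY hwY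

variable {Q : Type u} [Group Q] [Finite Q]

/-- The same in an extension of a model group. -/
theorem extension_four (K : Subgroup Q) [K.Normal] (hK : IsGWModel K) (h2 : p ≠ 2)
    {Y : Subgroup Q} (hYp : IsPGroup p Y) (hY : Odd (Nat.card Y)) {v w : Q} (hvK : v ∈ K)
    (hwK : w ∈ K) (hv : orderOf v = 2) (hw : orderOf w = 2) (hne : v ≠ w) (hvw : Commute v w)
    (hvY : v ∈ normalizer (Y : Set Q)) (hwY : w ∈ normalizer (Y : Set Q)) :
    Y ≤ cI v ∨ Y ≤ cI w ∨ Y ≤ cI (v * w) := by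
  set Y0 : Subgroup K := Y.subgroupOf K
  have hn : ∀ x (hx : x ∈ K), x ∈ normalizer (Y : Set Q) →
      (⟨x, hx⟩ : K) ∈ normalizer (Y0 : Set K) := fun x hx hxY =>
    mem_normalizer_iff_of_finite fun y hy => (mem_normalizer_iff.1 hxY (y : Q)).1 hy
  have hY0 : Odd (Nat.card Y0) :=
    hY.of_dvd_nat (card_dvd_of_injective
      ((K.subtype.comp Y0.subtype).codRestrict Y fun x => x.2)
      fun a b h => Subtype.ext (Subtype.ext (congrArg Subtype.val h :)))
  have hY0p : IsPGroup p Y0 := hYp.comap_subtype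
  have lift : ∀ u (hu : u ∈ K), orderOf u = 2 → u ∈ normalizer (Y : Set Q) →
      Y0 ≤ cI (⟨u, hu⟩ : K) → Y ≤ cI u := by
    intro u hu hu2 huY h
    refine le_cI_of_commutator hY hu2 huY fun y hy => ?_
    have h1 : y * u * y⁻¹ * u⁻¹ ∈ K :=
      mul_mem ((inferInstance : K.Normal).conj_mem u hu y) (inv_mem hu)
    have h2 : y * u * y⁻¹ * u⁻¹ ∈ Y := by
      rw [show y * u * y⁻¹ * u⁻¹ = y * (u * y⁻¹ * u⁻¹) by group]
      exact mul_mem hy ((mem_normalizer_iff.1 huY _).1 (inv_mem hy))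
    exact congrArg Subtype.val (mem_cI'.1 (h (x := ⟨_, h1⟩) h2)).eq
  rcases model_four hK h2 hY0p hY0 (v := ⟨v, hvK⟩) (w := ⟨w, hwK⟩)
    (by rw [Subgroup.orderOf_mk, hv]) (by rw [Subgroup.orderOf_mk, hw])
    (fun e => hne (congrArg Subtype.val e)) (Subtype.ext hvw.eq) (hn v hvK hvY) (hn w hwK hwY)
    with h | h | h
  · exact Or.inl (lift v hvK hv hvY h)
  · exact Or.inr (Or.inl (lift w hwK hw hwY h))
  · exact Or.inr (Or.inr (lift (v * w) (mul_mem hvK hwK) (orderOf_four_mul hv hw hne hvw)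
      (mul_mem hvY hwY) h))

end CfsgLib.GW.OnePrime
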