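import Cfsg.Agent.Lib.GW.OnePrime.Basic
import Cfsg.Agent.Lib.GW.OnePrime.ModelFour
import Cfsg.Agent.Lib.PLocal.Sylow

/-!
All normalizers of nontrivial `p`-subgroups of a minimal counterexample are solvable, provided the
normalizers of `Z(J(P))`, `P` a Sylow `p`-subgroup, are, and no involution centralizes a maximal
invariant `p`-subgroup of a four-group around it.
-/

set_option autoImplicit false
set_option linter.unusedSectionVars false
set_option linter.style.haveILetI false

namespace CfsgLib.GW.OnePrime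

open Subgroup CfsgLib.Invol CfsgLib.PLocal
open scoped MatrixGroups

universe u

variable {G : Type u} [Group G] [Finite G] {p : ℕ} [hp : Fact p.Prime]

/-- `Mx` is a maximal `p`-subgroup among those normalized by `v` and `w`. -/
def IsMaxInv (p : ℕ) (v w : G) (Mx : Subgroup G) : Prop :=
  IsPGroup p Mx ∧ v ∈ normalizer (Mx : Set G) ∧ w ∈ normalizer (Mx : Set G) ∧
    ∀ M' : Subgroup G, IsPGroup p M' → v ∈ normalizer (M' : Set G) → w ∈ normalizer (M' : Set G) →
      Mx ≤ M' → M' = Mx

theorem exists_maxInv {Y : Subgroup G} (hY : IsPGroup p Y) {v w : G}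
    (hv : v ∈ normalizer (Y : Set G)) (hw : w ∈ normalizer (Y : Set G)) :
    ∃ Mx, IsMaxInv p v w Mx ∧ Y ≤ Mx := by
  obtain ⟨Mx, hle, hMx⟩ := Finite.exists_le_maximal
    (p := fun M : Subgroup G => IsPGroup p M ∧ v ∈ normalizer (M : Set G) ∧
      w ∈ normalizer (M : Set G)) (a := Y) ⟨hY, hv, hw⟩
  exact ⟨Mx, ⟨hMx.1.1, hMx.1.2.1, hMx.1.2.2, fun M' h1 h2 h3 h4 =>
    le_antisymm (hMx.2 ⟨h1, h2, h3⟩ h4) h4⟩, hle⟩

theorem isSolvable_of_sup_eq_top {N H : Subgroup G} [N.Normal] (hN : Group.IsSolvable N)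
    (hH : Group.IsSolvable H) (h : N ⊔ H = ⊤) : Group.IsSolvable G := by
  haveI := hN
  haveI := hH
  haveI : Group.IsSolvable (G ⧸ N) := Group.isSolvable_of_surjective
    (f := (QuotientGroup.mk' N).comp H.subtype) fun x => by
      obtain ⟨g, rfl⟩ := QuotientGroup.mk_surjective x
      have hg : g ∈ N ⊔ H := h ▸ mem_top g
      obtain ⟨n, hn, k, hk, rfl⟩ :=
        (CfsgLib.Coprime.mem_sup_of_le_normalizer (le_normalizer_of_normal H N)).1 hg
      refine ⟨⟨k, hk⟩, ?_⟩
      show QuotientGroup.mk' N k = QuotientGroup.mk' N (n * k)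
      rw [map_mul, show QuotientGroup.mk' N n = 1 from (QuotientGroup.eq_one_iff n).2 hn, one_mul]
  exact Group.isSolvable_of_ker_le_range N.subtype (QuotientGroup.mk' N) (by simp)

theorem card_le_pPart {R H : Subgroup G} (hR : IsPGroup p R) (h : R ≤ H) :
    Nat.card R ≤ p ^ (Nat.card H).factorization p := by
  obtain ⟨n, hn⟩ := hR.exists_card_eq
  rw [hn]
  refine Nat.pow_le_pow_right hp.out.pos ?_
  exact (hp.out.pow_dvd_iff_le_factorization Nat.card_pos.ne').1 (hn ▸ card_dvd_of_le h)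

theorem sylowIn_card {T H : Subgroup G} (h : SylowIn p T H) :
    Nat.card T = p ^ (Nat.card H).factorization p := by
  refine le_antisymm (card_le_pPart h.2.1 h.1) ?_
  obtain ⟨W⟩ := (inferInstance : Nonempty (Sylow p H))
  have := h.card_le (W.2.map H.subtype) (map_subtype_le _)
  rwa [card_map_of_injective H.subtype_injective, W.card_eq_multiplicity] at this

/-- With solvable centralizer, a normal `p`-subgroup gives the factorization. -/
theorem factor_of_solvable_centralizer (h2 : p ≠ 2)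
    (hno : ∀ (K : Subgroup G) (f : K →* SL(2, ZMod p)), ¬ Function.Surjective f)
    (A : Subgroup G) [hAn : A.Normal] (hA : IsPGroup p A)
    (hC : Group.IsSolvable (centralizer (A : Set G))) (P : Sylow p G) :
    Cfsg.pPrimeCore p G ≤ centralizer (A : Set G) ∧
      Cfsg.pPrimeCore p G ⊔ normalizer (Cfsg.centerThompsonAOf (P : Subgroup G) : Set G) = ⊤ := by
  haveI := Cfsg.pPrimeCore_normal p G
  set O := Cfsg.pPrimeCore p G
  have hAO : A ⊓ O = ⊥ := CfsgLib.Comp.inf_eq_bot_of_isPGroup hA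
    (CfsgLib.Comp.coprime_card_pPrimeCore p G)
  refine ⟨fun x hx => mem_centralizer_iff.2 fun y hy =>
    (commute_of_normal_of_disjoint A O hAn inferInstance (disjoint_iff.2 hAO) y x hy hx).eq,
    zj_factor h2 hno ?_ P⟩
  set q := QuotientGroup.mk' O with hq
  set R := Cfsg.pCore p (G ⧸ O) with hR
  haveI hRn : R.Normal := Cfsg.pCore_normal p _
  set C := centralizer (R : Set (G ⧸ O)) with hCdef
  haveI hCn : C.Normal := inferInstance
  have hAR : A.map q ≤ R := CfsgLib.Solvable.le_pCore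
    (hAn.map q (QuotientGroup.mk'_surjective O)) (hA.map q)
  have hsub : C.comap q ≤ centralizer (A : Set G) := fun x hx => mem_centralizer_iff.2 fun y hy => by
    have h1 : q (y * x * y⁻¹ * x⁻¹) = 1 := by
      rw [map_mul, map_mul, map_mul, map_inv, map_inv,
        mem_centralizer_iff.1 (mem_comap.1 hx) (q y) (hAR ⟨y, hy, rfl⟩)]
      group
    have h2' : y * x * y⁻¹ * x⁻¹ ∈ A := by
      rw [show y * x * y⁻¹ * x⁻¹ = y * (x * y⁻¹ * x⁻¹) by group]
      exact mul_mem hy (hAn.conj_mem _ (inv_mem hy) x)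
    have h3 : y * x * y⁻¹ * x⁻¹ ∈ A ⊓ O := ⟨h2', (QuotientGroup.eq_one_iff _).1 h1⟩
    rw [hAO, mem_bot, mul_inv_eq_one, mul_inv_eq_iff_eq_mul] at h3
    exact h3
  haveI : Group.IsSolvable (C.comap q) := CfsgLib.Coprime.isSolvable_of_le hC hsub
  haveI : Group.IsSolvable C := Group.isSolvable_of_surjective
    (f := q.subgroupComap C) fun x => by
      obtain ⟨y, hy⟩ := QuotientGroup.mk'_surjective O (x : G ⧸ O)
      exact ⟨⟨y, mem_comap.2 (hy ▸ x.2)⟩, Subtype.ext hy⟩
  have hO' : Cfsg.pPrimeCore p C = ⊥ := by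
    have h := CfsgLib.Solvable.map_pPrimeCore_le p C
    rw [CfsgLib.Comp.pPrimeCore_quotient_eq_bot, le_bot_iff] at h
    exact (map_eq_bot_iff_of_injective _ C.subtype_injective).1 h
  have hcent := CfsgLib.Solvable.map_pCore_le p C
  intro c hc
  refine hcent ⟨⟨c, hc⟩, CfsgLib.Solvable.centralizer_pCore_le p hO' ?_, rfl⟩
  exact mem_centralizer_iff.2 fun d hd =>
    Subtype.ext (mem_centralizer_iff.1 hc _ (hcent ⟨d, hd, rfl⟩))

variable (M : Min G)
include M

/-- The normalizers of nontrivial `p`-subgroups are solvable. -/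
theorem local_solvable (h2 : p ≠ 2)
    (hzj : ∀ Q : Sylow p G,
      Group.IsSolvable (normalizer (Cfsg.centerThompsonAOf (Q : Subgroup G) : Set G)))
    (hmax : ∀ (v w u : G) (Mx : Subgroup G), orderOf v = 2 → orderOf w = 2 → Commute v w →
      orderOf u = 2 → Commute v u → Commute w u → IsMaxInv p v w Mx → ¬ Mx ≤ cI u)
    (X₀ : Subgroup G) (hX₀ : IsPGroup p X₀) (hne₀ : X₀ ≠ ⊥) :
    Group.IsSolvable (normalizer (X₀ : Set G)) := by
  classical
  by_contra hns₀
  let f : Subgroup G → ℕ := fun X => p ^ (Nat.card (normalizer (X : Set G))).factorization p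
  let bad : Set (Subgroup G) :=
    {X | IsPGroup p X ∧ X ≠ ⊥ ∧ ¬ Group.IsSolvable (normalizer (X : Set G))}
  obtain ⟨X, ⟨hXp, hXne, hns⟩, hXmax⟩ := Set.exists_max_image bad
    (fun X => f X * (Nat.card G + 1) + Nat.card X) (Set.toFinite _) ⟨X₀, hX₀, hne₀, hns₀⟩
  have hlex : ∀ X' ∈ bad, f X' ≤ f X ∧ (f X ≤ f X' → Nat.card X' ≤ Nat.card X) := fun X' h => by
    have h1 := hXmax X' h
    have h3 : Nat.card X < Nat.card G + 1 := Nat.lt_succ_of_le (card_le_card_group X)
    have h4 : f X' ≤ f X := by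
      by_contra hlt
      have := Nat.mul_le_mul_right (Nat.card G + 1) (Nat.succ_le_of_lt (Nat.lt_of_not_le hlt))
      rw [Nat.succ_mul] at this
      omega
    refine ⟨h4, fun h5 => ?_⟩
    have e : f X' = f X := le_antisymm h4 h5
    rw [e] at h1
    omega
  have hp_odd : Odd p := hp.out.odd_of_ne_two h2
  have hoddP : ∀ {R : Subgroup G}, IsPGroup p R → Odd (Nat.card R) := fun hR => by
    obtain ⟨n, hn⟩ := hR.exists_card_eq
    exact hn ▸ hp_odd.pow
  set N := normalizer (X : Set G) with hN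
  have hXN : X ≤ N := le_normalizer
  haveI hAn : (X.subgroupOf N).Normal := CfsgLib.Coprime.normal_subgroupOf_of_le_normalizer le_rfl
  let P : Sylow p N := default
  set Q : Subgroup G := (P : Subgroup N).map N.subtype with hQ
  have hQs : SylowIn p Q N :=
    ⟨map_subtype_le _, P.2.map _, CfsgLib.Fusion.not_dvd_relIndex_of_sylow P⟩
  have hQc : Nat.card Q = f X := sylowIn_card hQs
  have hXQ : X ≤ Q := fun x hx =>
    ⟨⟨x, hXN hx⟩, CfsgLib.Solvable.normal_pgroup_le_sylow (N := X.subgroupOf N)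
      hXp.comap_subtype P hx, rfl⟩
  have hQne : Q ≠ ⊥ := fun h => hXne (le_bot_iff.1 (h ▸ hXQ))
  by_cases hC : Group.IsSolvable (centralizer (X : Set G))
  · -- the constrained case
    haveI hCn : Group.IsSolvable (centralizer ((X.subgroupOf N : Subgroup N) : Set N)) := by
      haveI := hC
      refine Group.isSolvable_of_isSolvable_injective
        (f := ((N.subtype.comp (centralizer ((X.subgroupOf N : Subgroup N) : Set N)).subtype)
          ).codRestrict (centralizer (X : Set G)) fun x => mem_centralizer_iff.2 fun y hy =>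
            congrArg Subtype.val (mem_centralizer_iff.1 x.2 (⟨y, hXN hy⟩ : N) hy))
        fun a b h => Subtype.ext (Subtype.ext (congrArg Subtype.val h :))
    obtain ⟨hOC, hsup⟩ := factor_of_solvable_centralizer h2
      (no_sec_subgroup (no_sec M h2) N) (X.subgroupOf N) hXp.comap_subtype hCn P
    set Z := Cfsg.centerThompsonAOf Q with hZ
    have hZP : (Cfsg.centerThompsonAOf (P : Subgroup N)).map N.subtype = Z :=
      centerThompsonAOf_map N.subtype fun x _ h => Subtype.ext h
    have hZbad : Z ∈ bad := by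
      refine ⟨hQs.2.1.to_le (centerThompsonAOf_le Q), zj_ne_bot hQs.2.1 hQne, fun hs => hns ?_⟩
      haveI := hs
      haveI := Cfsg.pPrimeCore_normal p ↥N
      refine isSolvable_of_sup_eq_top (CfsgLib.Coprime.isSolvable_of_le hCn hOC) ?_ hsup
      refine Group.isSolvable_of_isSolvable_injective
        (f := ((N.subtype.comp (normalizer
          (Cfsg.centerThompsonAOf (P : Subgroup N) : Set N)).subtype)).codRestrict
            (normalizer (Z : Set G)) fun x => mem_normalizer_iff_of_finite fun y hy => by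
              rw [← hZP] at hy ⊢
              obtain ⟨z, hz, rfl⟩ := hy
              exact ⟨_, (mem_normalizer_iff.1 x.2 z).1 hz, rfl⟩)
        fun a b h => Subtype.ext (Subtype.ext (congrArg Subtype.val h :))
    have hQZ : ∀ R : Subgroup G, R ≤ normalizer (Q : Set G) → R ≤ normalizer (Z : Set G) :=
      fun R hR => hR.trans (normalizer_le_normalizer_centerThompsonAOf Q)
    obtain ⟨S, hS⟩ := hQs.2.1.exists_le_sylow
    rcases eq_or_lt_of_le hS with e | hlt
    · exact hZbad.2.2 (by rw [hZ, e]; exact hzj S)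
    · have h1 := card_lt_card_inf_normalizer S.2 hlt
      have h3 := card_le_pPart (S.2.to_le inf_le_left) (hQZ _ (inf_le_right :
        (S : Subgroup G) ⊓ normalizer (Q : Set G) ≤ _))
      rw [hQc] at h1
      exact absurd (hlex Z hZbad).1 (not_le.2 (lt_of_lt_of_le h1 h3))
  · -- the centralizer covers the socle
    haveI := Cfsg.pPrimeCore_normal 2 ↥N
    set O : Subgroup N := Cfsg.oddCore N with hO
    haveI hOn : O.Normal := Cfsg.pPrimeCore_normal 2 ↥N
    have hOodd : Odd (Nat.card O) :=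
      Nat.coprime_two_right.1 (CfsgLib.Solvable.pPrimeCore_coprime 2)
    set Og : Subgroup G := O.map N.subtype with hOg
    have hOgn : ∀ n ∈ N, ∀ x ∈ Og, n * x * n⁻¹ ∈ Og := by
      rintro n hn _ ⟨x, hx, rfl⟩
      exact ⟨_, hOn.conj_mem x hx ⟨n, hn⟩, rfl⟩
    have hOgN : Og ≤ N := map_subtype_le _
    set Rn : Subgroup G := Q ⊓ Og with hRn
    have hXO : X.subgroupOf N ≤ O := CfsgLib.Solvable.le_pPrimeCore hAn (Nat.coprime_two_right.2 (by
      rw [Nat.card_congr (subgroupOfEquivOfLe hXN).toEquiv]; exact hoddP hXp))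
    have hXR : X ≤ Rn := le_inf hXQ fun x hx => ⟨⟨x, hXN hx⟩, hXO hx, rfl⟩
    have hQR : Q ≤ normalizer (Rn : Set G) := fun x hx => mem_normalizer_iff_of_finite fun y hy =>
      ⟨Q.mul_mem (Q.mul_mem hx hy.1) (Q.inv_mem hx), hOgn x (hQs.1 hx) y hy.2⟩
    have hRbad : Rn ∈ bad := by
      refine ⟨hQs.2.1.to_le inf_le_left, fun h => hXne (le_bot_iff.1 (h ▸ hXR)), fun hs => hns ?_⟩
      haveI := hs
      refine isSolvable_of_sup_eq_top (CfsgLib.FT.odd_order_solvable hOodd) ?_ (frattini_sup P O)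
      refine Group.isSolvable_of_isSolvable_injective
        (f := ((N.subtype.comp (normalizer
          (((P : Subgroup N) ⊓ O : Subgroup N) : Set N)).subtype)).codRestrict
            (normalizer (Rn : Set G)) fun x => mem_normalizer_iff_of_finite fun y hy => by
              obtain ⟨⟨z, hz, rfl⟩, ⟨z', hz', he⟩⟩ := hy
              obtain rfl := Subtype.ext he
              have h := (mem_normalizer_iff.1 x.2 z').1 ⟨hz, hz'⟩
              exact ⟨⟨_, h.1, rfl⟩, ⟨_, h.2, rfl⟩⟩)
        fun a b h => Subtype.ext (Subtype.ext (congrArg Subtype.val h :))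
    have hRX : Rn = X := (eq_of_le_of_card_ge hXR ((hlex Rn hRbad).2 (by
      rw [← hQc]; exact card_le_pPart hQs.2.1 hQR))).symm
    have hpO : ∀ Y0 : Subgroup G, IsPGroup p Y0 → Y0 ≤ Og → Y0 ≤ X := by
      intro Y0 hY0 hle y hy
      obtain ⟨k, hk, hkQ⟩ := hQs.exists_conj_le hY0 (hle.trans hOgN)
      have h1 : k * y * k⁻¹ ∈ Rn := ⟨hkQ (conj_mem_conjMap hy), hOgn k hk y (hle hy)⟩
      rw [hRX] at h1
      exact (mem_normalizer_iff.1 hk y).2 h1
    have hXtop : X ≠ ⊤ := fun h => by
      haveI : Group.IsNilpotent G := by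
        have : IsPGroup p G := (h ▸ hXp : IsPGroup p (⊤ : Subgroup G)).of_equiv Subgroup.topEquiv
        exact this.isNilpotent
      exact hns inferInstance
    have hNtop : N ≠ ⊤ := M.normalizer_ne_top hXne hXtop
    obtain ⟨S2, ⟨E2⟩⟩ := exists_sylow_dihData M N hns
    obtain ⟨T2, ⟨e2⟩⟩ := CfsgLib.Recog.GW.quotient_sylow S2
    obtain ⟨f2⟩ := dihEquiv E2
    obtain ⟨E⟩ := exists_dihData T2.2 (by have := E2.h_pos; omega) (e2.symm.trans f2)
    set q := QuotientGroup.mk' O with hq
    have hGW : CfsgLib.Recog.GW.SimpleGW.{u} (Nat.card (N ⧸ O)) := by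
      refine M.below.mono ((Nat.card_le_card_of_surjective q (QuotientGroup.mk'_surjective O)).trans ?_)
      have : Nat.card N < Nat.card G :=
        lt_of_le_of_ne (card_le_card_group N) fun e => hNtop (eq_top_of_card_eq N e)
      omega
    obtain ⟨L, hLn, -, -, hLM, hLsol⟩ := CfsgLib.Recog.GW.exists_socle_model hGW (fun hs => by
      haveI := hs
      haveI := CfsgLib.FT.odd_order_solvable hOodd
      exact hns (Group.isSolvable_of_ker_le_range O.subtype q (by simp [hq])))
      (CfsgLib.Solvable.pPrimeCore_quotient_eq_bot 2) T2 E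
    haveI := hLn
    haveI := hLsol
    have hCXN : centralizer (X : Set G) ≤ N := fun x hx => mem_normalizer_iff_of_finite fun y hy => by
      rw [← mem_centralizer_iff.1 hx y hy, mul_inv_cancel_right]; exact hy
    set Cl : Subgroup N := (centralizer (X : Set G)).subgroupOf N ⊓ L.comap q with hCl
    have hClns : ¬ Group.IsSolvable (Cl.map N.subtype) := by
      intro hs
      apply hC
      haveI := hs
      let g : centralizer (X : Set G) →* ((N ⧸ O) ⧸ L) :=
        ((QuotientGroup.mk' L).comp q).comp (inclusion hCXN)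
      have hker : g.ker ≤ (inclusion (show Cl.map N.subtype ≤ centralizer (X : Set G) from
          map_le_iff_le_comap.2 inf_le_left)).range := by
        intro x hx
        refine ⟨⟨(x : G), ⟨inclusion hCXN x, ⟨x.2, ?_⟩, rfl⟩⟩, rfl⟩
        exact (QuotientGroup.eq_one_iff (q (inclusion hCXN x))).1 (MonoidHom.mem_ker.1 hx)
      exact Group.isSolvable_of_ker_le_range _ g hker
    obtain ⟨T⟩ := (inferInstance : Nonempty (Sylow 2 G))
    obtain ⟨D⟩ := M.dih T
    obtain ⟨_, ⟨a', ha', rfl⟩, _, ⟨b', hb', rfl⟩, ha, hb, hab, hne⟩ :=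
      CfsgLib.Recog.GenDihedral.exists_four_subgroup T D _ hClns
    set a : G := (a' : G) with hae
    set b : G := (b' : G) with hbe
    change orderOf a = 2 at ha
    change orderOf b = 2 at hb
    change Commute a b at hab
    change a ≠ b at hne
    have haC : a ∈ centralizer (X : Set G) := ha'.1
    have hbC : b ∈ centralizer (X : Set G) := hb'.1
    obtain ⟨Y, hXY, ⟨hYp, hYN, haY, hbY⟩, hYmax⟩ := Finite.exists_le_maximal
      (p := fun Y : Subgroup G => IsPGroup p Y ∧ Y ≤ N ∧ a ∈ normalizer (Y : Set G) ∧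
        b ∈ normalizer (Y : Set G)) (a := X) ⟨hXp, hXN, hCXN haC, hCXN hbC⟩
    set Yb : Subgroup (N ⧸ O) := (Y.subgroupOf N).map q with hYb
    have hnorm : ∀ x : N, (x : G) ∈ normalizer (Y : Set G) → q x ∈ normalizer (Yb : Set (N ⧸ O)) :=
      fun x hx => mem_normalizer_iff_of_finite fun z hz => by
        obtain ⟨y, hy, rfl⟩ := hz
        exact ⟨x * y * x⁻¹, (mem_normalizer_iff.1 hx (y : G)).1 hy, by simp⟩
    have hinvq : ∀ x : N, orderOf (x : G) = 2 → orderOf (q x) = 2 := fun x hx => by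
      have h1 : x * x = 1 := Subtype.ext (invol_mul_self hx)
      refine invol_of_mul_self (by rw [← map_mul, h1, map_one]) fun h => ?_
      exact invol_ne_one hx (congrArg Subtype.val
        (eq_one_of_odd_sq hOodd ((QuotientGroup.eq_one_iff x).1 h) h1))
    have hYbp : IsPGroup p Yb := (hYp.comap_subtype).map q
    have hYbodd : Odd (Nat.card Yb) := by
      obtain ⟨n, hn⟩ := hYbp.exists_card_eq
      exact hn ▸ hp_odd.pow
    have habq : q a' ≠ q b' := fun h => by
      have h1 := hinvq (a' * b') (orderOf_four_mul ha hb hne hab)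
      rw [map_mul, h, invol_mul_self (hinvq b' hb), orderOf_one] at h1
      omega
    have hsel := extension_four L hLM h2 hYbp hYbodd (v := q a') (w := q b') ha'.2 hb'.2
      (hinvq a' ha) (hinvq b' hb) habq
      ((show Commute a' b' from Subtype.ext hab.eq).map q) (hnorm a' haY) (hnorm b' hbY)
    have hY' : ∀ u' : N, orderOf (u' : G) = 2 → (u' : G) ∈ normalizer (Y : Set G) →
        (u' : G) ∈ centralizer (X : Set G) → Yb ≤ cI (q u') → Y ≤ cI (u' : G) := by
      intro u' hu hun huX hle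
      refine le_cI_of_commutator (hoddP hYp) hu hun fun y hy => ?_
      set y' : N := ⟨y, hYN hy⟩
      have h1 : y' * u' * y'⁻¹ * u'⁻¹ ∈ O := (QuotientGroup.eq_one_iff _).1 (by
        show q (y' * u' * y'⁻¹ * u'⁻¹) = 1
        have hc := mem_cI'.1 (hle ⟨y', hy, rfl⟩)
        rw [map_mul, map_mul, map_mul, map_inv, map_inv, hc.eq]
        group)
      have h3 : y * (u' : G) * y⁻¹ * (u' : G)⁻¹ ∈ Y := by
        rw [show y * (u' : G) * y⁻¹ * (u' : G)⁻¹ = y * ((u' : G) * y⁻¹ * (u' : G)⁻¹) by group]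
        exact mul_mem hy ((mem_normalizer_iff.1 hun _).1 (inv_mem hy))
      have h4 : y * (u' : G) * y⁻¹ * (u' : G)⁻¹ ∈ X :=
        hpO (Y ⊓ Og) (hYp.to_le inf_le_left) inf_le_right ⟨h3, ⟨_, h1, rfl⟩⟩
      exact mem_centralizer_iff.1 huX _ h4
    -- the maximal invariant subgroup over `Y`
    obtain ⟨Mx, hMx, hYMx⟩ := exists_maxInv hYp haY hbY
    have hfinal : ∀ u : G, orderOf u = 2 → Commute a u → Commute b u →
        u ∈ normalizer (Mx : Set G) → Y ≤ cI u → False := by
      intro u hu hau hbu huM hYu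
      refine hmax a b u Mx ha hb hab hu hau hbu hMx ?_
      have hMN : Mx ⊓ N ≤ Y := hYmax ⟨hMx.1.to_le inf_le_left, inf_le_right,
        mem_normalizer_iff_of_finite fun x hx =>
          ⟨(mem_normalizer_iff.1 hMx.2.1 x).1 hx.1, N.mul_mem (N.mul_mem (hCXN haC) hx.2) (N.inv_mem (hCXN haC))⟩,
        mem_normalizer_iff_of_finite fun x hx =>
          ⟨(mem_normalizer_iff.1 hMx.2.2.1 x).1 hx.1, N.mul_mem (N.mul_mem (hCXN hbC) hx.2) (N.inv_mem (hCXN hbC))⟩⟩
        (le_inf hYMx hYN)
      set H : Subgroup G := Mx ⊓ cI u with hH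
      have hYH : Y ≤ H := le_inf hYMx hYu
      by_contra hnle
      have hlt : H < Mx := lt_of_le_of_ne inf_le_left fun e => hnle (e ▸ inf_le_right)
      obtain ⟨y, hy, hyn, hyH⟩ := CfsgLib.Transfer.exists_mem_normalizer_not_mem hMx.1 hlt
      refine hyH ⟨hy, mem_cI'.2 ?_⟩
      set c := y⁻¹ * (u * y * u⁻¹) with hc
      have hcM : c ∈ Mx := mul_mem (inv_mem hy) ((mem_normalizer_iff.1 huM y).1 hy)
      have hcH : ∀ h ∈ H, Commute c h := by
        intro h hh
        have h1 : Commute (y * h * y⁻¹) u := mem_cI'.1 ((mem_normalizer_iff.1 hyn h).1 hh).2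
        have h2 : Commute h u := mem_cI'.1 hh.2
        have h3 : Commute h (y⁻¹ * u * y) := by
          have := h1.map (MulAut.conj y⁻¹).toMonoidHom
          simpa [mul_assoc] using this
        have h4 : Commute h (y⁻¹ * u * y * u⁻¹) := h3.mul_right h2.inv_right
        rw [hc, show y⁻¹ * (u * y * u⁻¹) = y⁻¹ * u * y * u⁻¹ by group]
        exact h4.symm
      have hcN : c ∈ N := hCXN (mem_centralizer_iff.2 fun x hx =>
        (hcH x (hYH (hXY hx))).eq.symm)
      have hcu : Commute c u := mem_cI'.1 (hYu (hMN ⟨hcM, hcN⟩))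
      have hinv : u * c * u⁻¹ = c⁻¹ := by
        rw [hc, show u * (y⁻¹ * (u * y * u⁻¹)) * u⁻¹ = u * y⁻¹ * u * y * (u * u)⁻¹ by group,
          invol_mul_self hu, invol_inv hu]
        simp [mul_assoc, invol_inv hu]
      rw [← hcu.eq, mul_inv_cancel_right] at hinv
      have h1 : c = 1 := eq_one_of_odd_sq (hoddP hMx.1) hcM (by
        nth_rewrite 2 [hinv]; exact mul_inv_cancel c)
      rw [hc, inv_mul_eq_one] at h1
      exact eq_mul_inv_iff_mul_eq.1 h1
    rcases hsel with h | h | h
    · exact hfinal a ha (Commute.refl a) hab.symm hMx.2.1 (hY' a' ha haY haC h)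
    · exact hfinal b hb hab (Commute.refl b) hMx.2.2.1 (hY' b' hb hbY hbC h)
    · rw [← map_mul] at h
      exact hfinal (a * b) (orderOf_four_mul ha hb hne hab) ((Commute.refl a).mul_right hab)
        (hab.symm.mul_right (Commute.refl b)) (mul_mem hMx.2.1 hMx.2.2.1)
        (hY' (a' * b') (orderOf_four_mul ha hb hne hab) (mul_mem haY hbY) (mul_mem haC hbC) h)

end CfsgLib.GW.OnePrime
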