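import Cfsg.Agent.Lib.GW.OnePrime.LocalSolvable

/-!
The structure of a maximal subgroup with normal 2-complement over the centralizer of an involution,
whose Fitting subgroup is a `p`-group.
-/

set_option autoImplicit false
set_option linter.unusedSectionVars false
set_option linter.style.haveILetI false

namespace CfsgLib.GW.OnePrime

open Subgroup CfsgLib.Invol CfsgLib.PLocal

universe u

variable {G : Type u} [Group G] [Finite G] {p : ℕ} [hp : Fact p.Prime]

theorem not_solvable (M : Min G) : ¬ Group.IsSolvable G := fun h => by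
  haveI := M.simple
  exact M.noncomm ⟨⟨IsSimpleGroup.comm_iff_isSolvable.2 h⟩⟩

/-- What the proof uses about the maximal subgroup `K` and its odd normal complement `R`. -/
structure Setup (p : ℕ) (a : G) (K R : Subgroup G) : Prop where
  ha : orderOf a = 2
  hK : IsCoatom K
  hle : cI a ≤ K
  odd_prime : p ≠ 2
  hRK : R ≤ K
  odd : Odd (Nat.card R)
  norm : K ≤ normalizer (R : Set G)
  mem_R : ∀ x ∈ K, Odd (orderOf x) → x ∈ R
  central : ∀ k ∈ K, k * a * k⁻¹ * a⁻¹ ∈ R
  solvable : Group.IsSolvable K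
  normalizer_zj : ∀ P : Subgroup G, SylowIn p P K →
    normalizer (Cfsg.centerThompsonAOf P : Set G) = K
  not_centralized : ∀ P : Subgroup G, SylowIn p P K → ∀ t ∈ K, orderOf t = 2 → ¬ P ≤ cI t

variable {a : G} {K : Subgroup G}

theorem exists_setup (M : Min G) (ha : orderOf a = 2) (hK : IsCoatom K) (hle : cI a ≤ K)
    (hnc : Cfsg.HasNormalPComplement 2 K) (hne : K ≠ cI a)
    (hF : IsPGroup p ↥(Cfsg.fittingSubgroup ↥K)) : ∃ R, Setup p a K R := by
  classical
  haveI : Fact (Nat.Prime 2) := ⟨Nat.prime_two⟩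
  haveI := M.simple
  obtain ⟨S, R0, hR0n, hcompl⟩ := hnc
  haveI := hR0n
  have hidx : R0.index = Nat.card (S : Subgroup K) := hcompl.symm.index_eq_card
  have hidx' : (S : Subgroup K).index = Nat.card R0 := hcompl.index_eq_card
  have hRodd : Odd (Nat.card R0) := by
    rw [← hidx', ← Nat.not_even_iff_odd, even_iff_two_dvd]
    exact S.not_dvd_index
  have hq2 : IsPGroup 2 (K ⧸ R0) := by
    obtain ⟨n, hn⟩ := S.2.exists_card_eq
    exact IsPGroup.of_card (n := n) (by rw [← Subgroup.index_eq_card, hidx, hn])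
  haveI hRsol : Group.IsSolvable R0 := CfsgLib.FT.odd_order_solvable hRodd
  haveI hKsol : Group.IsSolvable K := by
    haveI : Group.IsNilpotent (K ⧸ R0) := hq2.isNilpotent
    exact Group.isSolvable_of_ker_le_range R0.subtype (QuotientGroup.mk' R0) (by simp)
  have hmem : ∀ x : K, Odd (orderOf (x : G)) → x ∈ R0 := fun x hx => by
    rw [← QuotientGroup.eq_one_iff]
    obtain ⟨n, hn⟩ := hq2.exists_card_eq
    refine orderOf_eq_one_iff.1 (Nat.eq_one_of_dvd_coprimes (a := orderOf (x : G)) (b := 2 ^ n)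
      ((Nat.coprime_two_right.2 hx).pow_right n) ?_ (hn ▸ orderOf_dvd_natCard _))
    rw [Subgroup.orderOf_coe]
    exact orderOf_map_dvd (QuotientGroup.mk' R0) x
  obtain ⟨T, haT, hTc⟩ := M.exists_sylow ha
  have hTK : (T : Subgroup G) ≤ K := hTc.trans hle
  haveI : Nontrivial K := by
    refine ⟨⟨⟨a, hle (self_mem_cI a)⟩, 1, fun h => invol_ne_one ha (congrArg Subtype.val h)⟩⟩
  haveI := CfsgLib.Solvable.fittingSubgroup_normal K
  set F := Cfsg.fittingSubgroup K with hFdef
  have hFne : F ≠ ⊥ := CfsgLib.Solvable.fittingSubgroup_ne_bot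
  have hCF : centralizer (F : Set K) ≤ F := CfsgLib.Solvable.centralizer_fittingSubgroup_le
  -- the prime is odd
  have hp2 : p ≠ 2 := by
    rintro rfl
    have hdis : R0 ⊓ F = ⊥ := by
      obtain ⟨n, hn⟩ := hF.exists_card_eq
      refine inf_eq_bot_of_coprime ?_
      rw [hn]; exact (Nat.coprime_two_right.2 hRodd).pow_right n
    have hRF : R0 ≤ F := fun x hx => hCF (mem_centralizer_iff.2 fun y hy =>
      (commute_of_normal_of_disjoint R0 F hR0n inferInstance (disjoint_iff.2 hdis) x y hx hy).eq.symm)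
    rw [inf_eq_left.2 hRF] at hdis
    have hK2 : IsPGroup 2 K := by
      obtain ⟨n, hn⟩ := S.2.exists_card_eq
      refine IsPGroup.of_card (n := n) ?_
      rw [← R0.card_mul_index, hidx, hn, hdis, card_bot, one_mul]
    obtain ⟨T', hT'⟩ := hK2.exists_le_sylow
    have hT'K : (T' : Subgroup G) = K := by
      rcases eq_or_lt_of_le hT' with e | hlt
      · exact e.symm
      · have htop := hK.2 _ hlt
        haveI : Group.IsNilpotent G := ((htop ▸ T'.2 : IsPGroup 2 (⊤ : Subgroup G)).of_equiv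
          Subgroup.topEquiv).isNilpotent
        exact absurd (inferInstance : Group.IsSolvable G) (not_solvable M)
    obtain ⟨D⟩ := M.dih T'
    have hz : orderOf (dz T' D) = 2 := (Subgroup.orderOf_coe _).trans D.orderOf_z
    have hKz : K ≤ cI (dz T' D) := fun x hx => mem_cI.2 (dz_commute T' D (hT'K.symm ▸ hx)).eq.symm
    have hKe : K = cI (dz T' D) := by
      rcases eq_or_lt_of_le hKz with e | hlt
      · exact e
      · exact absurd (hK.2 _ hlt) (M.cI_ne_top (invol_ne_one hz))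
    obtain ⟨x, hx⟩ := isConj_iff.1 (M.one_class ha hz)
    have hcard : Nat.card (cI a) = Nat.card K := by
      rw [hKe, ← hx, ← cI_conj, card_map_of_injective (f := (MulAut.conj x).toMonoidHom)
        (MulAut.conj x).injective]
    exact hne (eq_of_le_of_card_ge hle hcard.ge).symm
  have hFp : F = Cfsg.pCore p K := le_antisymm (CfsgLib.Solvable.le_pCore inferInstance hF)
    (CfsgLib.Solvable.pCore_le_fittingSubgroup p)
  have hc : centralizer (Cfsg.pCore p K : Set K) ≤ Cfsg.pCore p K := hFp ▸ hCF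
  have hRg : ∀ k ∈ K, ∀ y ∈ R0.map K.subtype, k * y * k⁻¹ ∈ R0.map K.subtype := by
    rintro k hk _ ⟨y, hy, rfl⟩
    exact ⟨_, hR0n.conj_mem y hy ⟨k, hk⟩, rfl⟩
  -- a central Sylow subgroup maps onto the quotient
  have hcentral : ∀ k ∈ K, k * a * k⁻¹ * a⁻¹ ∈ R0.map K.subtype := by
    intro k hk
    let T0 : Sylow 2 K := T.subtype hTK
    let q := QuotientGroup.mk' R0
    have htop : ((T0.mapSurjective (QuotientGroup.mk'_surjective R0) : Sylow 2 (K ⧸ R0)) :
        Subgroup (K ⧸ R0)) = ⊤ :=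
      ((T0.mapSurjective (QuotientGroup.mk'_surjective R0)).3
        (hq2.of_equiv Subgroup.topEquiv.symm) le_top).symm
    rw [Sylow.coe_mapSurjective] at htop
    obtain ⟨t, ht, hte⟩ : q ⟨k, hk⟩ ∈ (T0 : Subgroup K).map (QuotientGroup.mk' R0) :=
      htop.symm ▸ mem_top _
    have hta : t * ⟨a, hle (self_mem_cI a)⟩ * t⁻¹ = (⟨a, hle (self_mem_cI a)⟩ : K) :=
      Subtype.ext (conj_eq_self (hTc ht))
    refine ⟨⟨k, hk⟩ * ⟨a, hle (self_mem_cI a)⟩ * ⟨k, hk⟩⁻¹ * ⟨a, hle (self_mem_cI a)⟩⁻¹, ?_, rfl⟩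
    refine (QuotientGroup.eq_one_iff _).1 ?_
    show q _ = 1
    simp only [map_mul, map_inv]
    rw [← hte]
    show q t * q _ * (q t)⁻¹ * (q _)⁻¹ = 1
    rw [← map_inv q t, ← map_mul, ← map_mul, hta, mul_inv_cancel]
  refine ⟨R0.map K.subtype, ⟨ha, hK, hle, hp2, map_subtype_le _, ?_, ?_, ?_, hcentral, hKsol, ?_, ?_⟩⟩
  · rw [card_map_of_injective K.subtype_injective]; exact hRodd
  · exact fun k hk => mem_normalizer_iff_of_finite fun y hy => hRg k hk y hy
  · exact fun x hx ho => ⟨⟨x, hx⟩, hmem ⟨x, hx⟩ ho, rfl⟩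
  · intro P hP
    obtain ⟨W, hW⟩ := (hP.2.1.of_equiv (subgroupOfEquivOfLe hP.1).symm).exists_le_sylow
    have hWP : P = (W : Subgroup K).map K.subtype :=
      hP.eq_of_le (W.2.map _) (map_subtype_le _) fun x hx => ⟨⟨x, hP.1 hx⟩, hW hx, rfl⟩
    obtain ⟨D⟩ := M.dih T
    have hn := CfsgLib.Recog.GenDihedral.centerThompson_normal hp2 T D K hc W
    have hPne : P ≠ ⊥ := by
      intro h
      rw [hWP, map_eq_bot_iff_of_injective _ K.subtype_injective] at h
      exact hFne (le_bot_iff.1 ((hFp ▸ CfsgLib.Solvable.pCore_le_sylow W).trans h.le))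
    set Z := Cfsg.centerThompsonAOf P with hZ
    have hZW : (Cfsg.centerThompsonAOf (W : Subgroup K)).map K.subtype = Z := by
      rw [hZ, hWP]; exact centerThompsonAOf_map K.subtype fun x _ h => Subtype.ext h
    have hKn : K ≤ normalizer (Z : Set G) := fun k hk => mem_normalizer_iff_of_finite fun y hy => by
      rw [← hZW] at hy ⊢
      obtain ⟨z, hz, rfl⟩ := hy
      exact ⟨_, hn.conj_mem z hz ⟨k, hk⟩, rfl⟩
    have hZtop : Z ≠ ⊤ := fun h => hK.1 (top_le_iff.1
      (h ▸ (centerThompsonAOf_le P).trans hP.1))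
    rcases eq_or_lt_of_le hKn with e | hlt
    · exact e.symm
    · exact absurd (hK.2 _ hlt) (M.normalizer_ne_top (zj_ne_bot hP.2.1 hPne) hZtop)
  · intro P hP t ht ht2 hPt
    obtain ⟨W, hW⟩ := (hP.2.1.of_equiv (subgroupOfEquivOfLe hP.1).symm).exists_le_sylow
    have hWP : P = (W : Subgroup K).map K.subtype :=
      hP.eq_of_le (W.2.map _) (map_subtype_le _) fun x hx => ⟨⟨x, hP.1 hx⟩, hW hx, rfl⟩
    have h1 : (⟨t, ht⟩ : K) ∈ F := hCF (mem_centralizer_iff.2 fun y hy => Subtype.ext (mem_cI.1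
      (hPt (hWP ▸ ⟨y, CfsgLib.Solvable.pCore_le_sylow W (hFp ▸ hy), rfl⟩))))
    obtain ⟨n, hn⟩ := hF.exists_card_eq
    have h2 := Subgroup.orderOf_dvd_natCard F h1
    rw [Subgroup.orderOf_mk, ht2, hn] at h2
    exact hp2 ((Nat.prime_dvd_prime_iff_eq Nat.prime_two hp.out).1
      (Nat.prime_two.dvd_of_dvd_pow h2)).symm

variable {R : Subgroup G}

/-- Conjugates of Sylow subgroups of `K` in the core are Sylow subgroups. -/
theorem Setup.sylowIn (S : Setup p a K R) {P : Subgroup G} (hP : SylowIn p P R) :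
    SylowIn p P K := by
  obtain ⟨T, hT, -⟩ := exists_sylowIn_le (hP.2.1) (hP.1.trans S.hRK)
  have hodd : Odd p := hp.out.odd_of_ne_two S.odd_prime
  refine hT.of_card_le hP.2.1 (hP.1.trans S.hRK) (hP.card_le hT.2.1 fun x hx => S.mem_R x (hT.1 hx) ?_)
  obtain ⟨n, hn⟩ := hT.2.1.exists_card_eq
  exact (hodd.pow (n := n)).of_dvd_nat (hn ▸ Subgroup.orderOf_dvd_natCard T hx)

/-- The Sylow `p`-subgroups of `K` are Sylow subgroups of `G`. -/
theorem Setup.exists_sylow_eq (S : Setup p a K R) {P : Subgroup G} (hP : SylowIn p P K) :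
    ∃ Q : Sylow p G, (Q : Subgroup G) = P := by
  obtain ⟨Q, hQ⟩ := hP.2.1.exists_le_sylow
  refine ⟨Q, ?_⟩
  rcases eq_or_lt_of_le hQ with e | hlt
  · exact e.symm
  · exfalso
    have h1 := card_lt_card_inf_normalizer Q.2 hlt
    have h2 : (Q : Subgroup G) ⊓ normalizer (P : Set G) ≤ K := inf_le_right.trans
      ((normalizer_le_normalizer_centerThompsonAOf P).trans (S.normalizer_zj P hP).le)
    exact absurd (hP.card_le (Q.2.to_le inf_le_left) h2) (not_le.2 h1)

end CfsgLib.GW.OnePrime
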